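import Cfsg.Agent.TwoF.XL.Fac
import Cfsg.Agent.TwoF.XS.Sp2.Rad
import Cfsg.Agent.TwoF.XS.S62.Grp

/-!
# TwoF XL-P3: `L₆(2)`, `p = 3` (helper35)
-/

set_option autoImplicit false

namespace Cfsg.Agent.TwoF.XL.P3

open Module Gen XE Subgroup Matrix
open ClassicalGeometry.AutPSL.Root (pr pr_eq_one_iff)

theorem prL_ne_one {F : Type} [Field F] {n : ℕ} {s t : SLn n F} (h : t.1 * s.1 ≠ s.1 * t.1) : pr s ≠ 1 := fun e =>
  h (congrArg Subtype.val (mem_center_iff.1 ((pr_eq_one_iff s).1 e) t))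

/-- the elementary matrices -/
def tv (i j : Fin 6) : Matrix (Fin 6) (Fin 6) (ZMod 2) := fun a b => if a = b ∨ (a = i ∧ b = j) then 1 else 0

/-- the matrices -/
def m6 (i : Fin 14) : Matrix (Fin 6) (Fin 6) (ZMod 2) :=
  match i with
  | 0 => !![0, 1, 0, 0, 0, 0; 1, 1, 0, 0, 0, 0; 0, 0, 1, 0, 0, 0; 0, 0, 0, 1, 0, 0; 0, 0, 0, 0, 1, 0; 0, 0, 0, 0, 0, 1]
  | 1 => !![1, 0, 0, 0, 0, 0; 0, 1, 0, 0, 0, 0; 0, 0, 0, 1, 0, 0; 0, 0, 1, 1, 0, 0; 0, 0, 0, 0, 1, 0; 0, 0, 0, 0, 0, 1]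
  | 2 => !![1, 0, 0, 0, 0, 0; 0, 1, 0, 0, 0, 0; 0, 0, 1, 0, 0, 0; 0, 0, 0, 1, 0, 0; 0, 0, 0, 0, 0, 1; 0, 0, 0, 0, 1, 1]
  | 3 => !![0, 0, 0, 0, 1, 0; 0, 0, 0, 0, 0, 1; 1, 0, 0, 0, 0, 0; 0, 1, 0, 0, 0, 0; 0, 0, 1, 0, 0, 0; 0, 0, 0, 1, 0, 0]
  | 4 => !![1, 0, 0, 0, 0, 0; 0, 1, 0, 0, 0, 0; 0, 0, 0, 1, 0, 0; 0, 0, 1, 0, 0, 0; 0, 0, 0, 0, 0, 1; 0, 0, 0, 0, 1, 0]
  | 5 => tv 0 5
  | 6 => tv 1 5
  | 7 => tv 2 5
  | 8 => tv 3 5
  | 9 => tv 4 5
  | 10 => tv 0 1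
  | 11 => tv 0 2
  | 12 => tv 0 3
  | 13 => tv 0 4

theorem m6_ok : ∀ i, m6 i * m6 i = 1 ∨ m6 i * (m6 i * m6 i) = 1 := by decide +kernel

theorem det_one' {M N : Matrix (Fin 6) (Fin 6) (ZMod 2)} (h : M * N = 1) : M.det = 1 := by
  have h1 := congrArg det h
  rw [det_mul, det_one] at h1
  exact (by decide : ∀ a b : ZMod 2, a * b = 1 → a = 1) _ _ h1

theorem m6_det (i : Fin 14) : (m6 i).det = 1 := by
  rcases m6_ok i with h | h
  exacts [det_one' h, det_one' h]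

/-- the elements -/
def e6 (i : Fin 14) : SLn 6 (ZMod 2) := ⟨m6 i, m6_det i⟩

/-- the images -/
def f6 (i : Fin 14) : PL 6 (ZMod 2) := pr (e6 i)

theorem r6 {i j l m : Fin 14} (h : m6 i * m6 j = m6 l * m6 m) : f6 i * f6 j = f6 l * f6 m :=
  (map_mul pr _ _).symm.trans ((congrArg pr (Subtype.ext h : e6 i * e6 j = e6 l * e6 m)).trans (map_mul pr _ _))

theorem r6' {i j l m n : Fin 14} (h : m6 i * m6 j = m6 l * m6 m * m6 n) : f6 i * f6 j = f6 l * f6 m * f6 n := by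
  simp only [f6, ← map_mul]
  exact congrArg pr (Subtype.ext h)

theorem sq6 {i : Fin 14} (h : m6 i * m6 i = 1) : f6 i ^ 2 = 1 := by
  rw [pow_two, f6, ← map_mul, show e6 i * e6 i = 1 from Subtype.ext h, map_one]

theorem cb6 {i : Fin 14} (h : m6 i * m6 i * m6 i = 1) : f6 i ^ 3 = 1 := by
  rw [_root_.pow_three', f6, ← map_mul, ← map_mul, show e6 i * e6 i * e6 i = 1 from Subtype.ext h, map_one]

theorem dt6 : XS.S62.Dt (f6 0) (f6 1) (f6 2) (f6 3) (f6 4) where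
  a3 := cb6 (by decide +kernel)
  ne := prL_ne_one (t := e6 3) (show m6 3 * m6 0 ≠ m6 0 * m6 3 by decide +kernel)
  s3 := cb6 (by decide +kernel)
  c0 := mul_inv_eq_of_eq_mul (r6 (by decide +kernel))
  c1 := mul_inv_eq_of_eq_mul (r6 (by decide +kernel))
  c01 := r6 (by decide +kernel)
  e0 := mul_inv_eq_of_eq_mul (r6 (by decide +kernel))
  e1 := by
    rw [inv_eq_of_mul_eq_one_left ((_root_.pow_three' _).symm.trans (cb6 (i := 1) (by decide +kernel)))]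
    exact mul_inv_eq_of_eq_mul (r6' (by decide +kernel))
  e2 := by
    rw [inv_eq_of_mul_eq_one_left ((_root_.pow_three' _).symm.trans (cb6 (i := 2) (by decide +kernel)))]
    exact mul_inv_eq_of_eq_mul (r6' (by decide +kernel))

theorem heis6 : Omega.Lie.Heis.Heis 2 4 (f6 5) (fun i => f6 (![6, 7, 8, 9] i)) fun i => f6 (![10, 11, 12, 13] i) where
  prime := Nat.prime_two
  zr := sq6 (by decide +kernel)
  xr i := sq6 (by revert i; decide +kernel)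
  zx i := r6 (by revert i; decide +kernel)
  zy i := r6 (by revert i; decide +kernel)
  xx i j := r6 (by revert i j; decide +kernel)
  yx i j h := r6 (by revert i j; decide +kernel)
  conj i := mul_inv_eq_of_eq_mul (r6' (by revert i; decide +kernel))

theorem row_six : Row 3 (PL 6 (ZMod 2)) := by
  haveI := finL 6 (ZMod 2)
  have hF : Fintype.card (ZMod 2) = 2 := ZMod.card 2
  have ho : ¬ 3 ∣ Nat.card (Out (PL 6 (ZMod 2))) := by
    rw [outL (r := 2) (f := 1) Nat.prime_two le_rfl hF (by omega)]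
    decide +kernel
  have hz : Zc 3 (PL 6 (ZMod 2)) 1 := zc_of_cyclic (S2086.result hF 6 (by omega) (by omega) (by simp))
  refine ⟨XS.SpTwo.row88_of_rep hz (centerL (by omega) (by omega)) ho fun V _ _ _ σ hσ A hA r hr hc => ?_,
    row89_of_not_dvd ho⟩
  obtain ⟨h27, g, hg⟩ := dt6.exists_conj (A := A) (fun P hP => by
    obtain ⟨m, hm⟩ := hP.exists_card_eq
    have h1 := card_subgroup_dvd_card P
    rw [hm, cardL (s := 20158709760) hF (by omega) (by decide +kernel)] at h1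
    rw [hm, show 81 = 3 ^ 4 by norm_num]
    refine Nat.pow_le_pow_right (by norm_num) (le_of_not_gt fun h => ?_)
    exact absurd ((pow_dvd_pow 3 h).trans h1) (by decide +kernel)) hA
    (hc ▸ Nat.pow_le_pow_right (n := 3) (i := 3) (by norm_num) hr)
  have h3 : r = 3 := Nat.pow_right_injective (a := 3) (by norm_num) (by
    show 3 ^ r = 3 ^ 3
    rw [← hc, ← card_map_of_injective (f := (MulAut.conj g).toMonoidHom) (MulAut.conj g).injective]
    exact (congrArg (fun H : Subgroup _ => Nat.card H) hg).trans h27)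
  have h4 := XS.SpTwo.heis_cod_two heis6 (by norm_num) (ρ := σ) fun e =>
    prL_ne_one (s := e6 5) (t := e6 0) (show m6 0 * m6 5 ≠ m6 5 * m6 0 by decide +kernel) (hσ (e.trans (map_one σ).symm))
  have h5 := cod_zpowers_commutator_le (ρ := σ) (f6 0) (f6 6)
  rw [show f6 0 * f6 6 * (f6 0)⁻¹ * (f6 6)⁻¹ = f6 5 from
    mul_inv_eq_of_eq_mul (mul_inv_eq_of_eq_mul (r6' (by decide +kernel)))] at h5
  have h6 := cod_le_of_mem (ρ := σ) dt6.mem0
  rw [← hg, cod_conj] at h6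
  omega

end Cfsg.Agent.TwoF.XL.P3
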